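import Cfsg.Agent.H616.TI.Defs
import Cfsg.Agent.LieRecognition.ReeSplit
import Cfsg.Agent.LieRecognition.ReeFinal
import Cfsg.Agent.Lib.FrattiniBasic
import Cfsg.Agent.H121.ReeMin

/-!
# S4821, row REE: the Sylow 3-subgroups of the small Ree groups are good

`result : GoalReg → GoalRee`.
-/

set_option autoImplicit false
set_option linter.unusedSectionVars false

namespace Cfsg.Agent.H121.TI.Ree

open Subgroup Cfsg
open Cfsg.Agent.LieRecognition Cfsg.Agent.LieRecognition.ReeAbs Cfsg.Agent.LieRecognition.ReeSylowThree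
open Cfsg.Agent.LieRecognition.ReeSplit
open Cfsg.Agent.H616.TI (Good GoodL autOf GoalReg GoalRee)

universe u

/-- transport of the Bruhat normal form -/
theorem data_congr {K : Type*} [Field K] {G G' : Type*} [Group G] [Group G'] {m : ℕ} {U : K → K → K → G} {h : Kˣ → G}
    {n : G} (e : G ≃* G') (D : Data m U h n) :
    Data m (fun t u v => e (U t u v)) (fun a => e (h a)) (e n) where
  U_mul t u v t' u' v' := by rw [← map_mul, D.U_mul]
  h_mul a b := by rw [← map_mul, D.h_mul]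
  h_U a t u v := by rw [← map_mul, D.h_U, map_mul]
  n_h a := by rw [← map_mul, D.n_h, map_mul]
  n_n := by rw [← map_mul, D.n_n, map_one]
  n_U := by rw [← map_mul, ← map_mul, D.n_U, map_mul, map_mul]
  bruhat g := by
    rcases D.bruhat (e.symm g) with ⟨t, u, v, a, h1⟩ | ⟨t, u, v, a, t', u', v', h1⟩
    · refine Or.inl ⟨t, u, v, a, ?_⟩
      rw [← map_mul, ← h1, e.apply_symm_apply]
    · refine Or.inr ⟨t, u, v, a, t', u', v', ?_⟩
      rw [← map_mul, ← map_mul, ← map_mul, ← h1, e.apply_symm_apply]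
  inj₁ t u v a t' u' v' a' h1 := by
    rw [← map_mul, ← map_mul] at h1
    exact D.inj₁ _ _ _ _ _ _ _ _ (e.injective h1)
  ne t u v a t' u' v' a' t'' u'' v'' h1 := by
    rw [← map_mul, ← map_mul, ← map_mul, ← map_mul] at h1
    exact D.ne _ _ _ _ _ _ _ _ _ _ _ (e.injective h1)
  inj₂ t u v a t' u' v' t₁ u₁ v₁ a₁ t₁' u₁' v₁' h1 := by
    simp only [← map_mul] at h1
    exact D.inj₂ _ _ _ _ _ _ _ _ _ _ _ _ _ _ (e.injective h1)

variable {K : Type*} [Field K] [Fintype K] {G : Type u} [Group G] {m : ℕ}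
  {U : K → K → K → G} {h : Kˣ → G} {n : G}

/-- the Sylow subgroup -/
theorem exists_sylow [Finite G] (D : Data m U h n) (hK : Fintype.card K = 3 ^ (2 * m + 1)) :
    ∃ S : Sylow 3 G, (S : Subgroup G) = uSub D := by
  haveI : Fact (Nat.Prime 3) := ⟨Nat.prime_three⟩
  have hcardU : Nat.card (uSub D) = 3 ^ (3 * (2 * m + 1)) := by
    rw [card_uSub, hK, ← pow_mul, mul_comm]
  have hfac : (Nat.card G).factorization 3 = 3 * (2 * m + 1) := by
    rw [card_eq D, hK]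
    set q := 3 ^ (2 * m + 1) with hq
    have hq3 : 3 ∣ q := dvd_pow_self 3 (by omega)
    have hq0 : 0 < q := by positivity
    have h1 : ¬ 3 ∣ (q - 1) * (q ^ 3 + 1) := by
      rw [Nat.prime_three.dvd_mul]
      have h3 : 3 ∣ q ^ 3 := dvd_pow hq3 (by norm_num)
      rintro (h | h) <;> omega
    rw [mul_assoc, Nat.factorization_mul (by positivity) (by intro h0; rw [h0] at h1; exact h1 (dvd_zero 3)),
      Finsupp.add_apply, Nat.factorization_eq_zero_of_not_dvd h1, hq, ← pow_mul,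
      Nat.Prime.factorization_pow Nat.prime_three, Finsupp.single_apply, if_pos rfl, add_zero, mul_comm]
  exact ⟨Sylow.ofCard (uSub D) (by rw [hcardU, hfac]), rfl⟩

theorem exists_pow_ne (hm : 1 ≤ m) (hK : Fintype.card K = 3 ^ (2 * m + 1)) : ∃ t : K, t ^ (3 ^ (m + 1)) ≠ t := by
  classical
  by_contra hcon
  push Not at hcon
  -- all elements are roots of `X ^ (3 ^ (m + 1)) - X`
  have hdeg : 1 < 3 ^ (m + 1) := Nat.one_lt_pow (by omega) (by norm_num)
  have hne : (Polynomial.X ^ (3 ^ (m + 1)) - Polynomial.X : Polynomial K) ≠ 0 :=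
    FiniteField.X_pow_card_sub_X_ne_zero K hdeg
  have h1 : Fintype.card K ≤ (Polynomial.X ^ (3 ^ (m + 1)) - Polynomial.X : Polynomial K).natDegree := by
    refine (Finset.card_le_card ?_).trans ((Multiset.toFinset_card_le _).trans
      (Polynomial.card_roots' (Polynomial.X ^ (3 ^ (m + 1)) - Polynomial.X : Polynomial K)))
    intro t _
    rw [Multiset.mem_toFinset, Polynomial.mem_roots hne]
    simp [Polynomial.IsRoot, hcon t]
  rw [FiniteField.X_pow_card_sub_X_natDegree_eq K hdeg, hK] at h1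
  have h2 : 3 ^ (m + 1) < 3 ^ (2 * m + 1) := Nat.pow_lt_pow_right (by norm_num) (by omega)
  omega

/-- the centre of the Sylow 3-subgroup -/
theorem of_commute (D : Data m U h n) (hm : 1 ≤ m) (hK : Fintype.card K = 3 ^ (2 * m + 1)) {x : G}
    (hx : x ∈ uSub D) (hc : ∀ y ∈ uSub D, x * y = y * x) : ∃ v, x = U 0 0 v := by
  obtain ⟨t, u, v, rfl⟩ := hx
  have key : ∀ t', t * t' ^ (3 ^ (m + 1)) = t' * t ^ (3 ^ (m + 1)) := by
    intro t'
    have h1 := hc (U t' 0 0) ⟨_, _, _, rfl⟩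
    rw [D.U_mul, D.U_mul] at h1
    have h2 := (U_injective D h1).2.1
    linear_combination -h2
  have ht : t = 0 := by
    by_contra ht
    obtain ⟨s, hs⟩ := exists_pow_ne hm hK
    have h1 := key 1
    rw [one_pow, mul_one, one_mul] at h1
    have h2 := key s
    rw [← h1, mul_comm s t] at h2
    exact hs (mul_left_cancel₀ ht h2)
  subst ht
  have h1 := hc (U 1 0 0) ⟨_, _, _, rfl⟩
  rw [D.U_mul, D.U_mul] at h1
  have h2 := (U_injective D h1).2.2
  rw [zero_pow_three_pow] at h2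
  have hu : u = 0 := by linear_combination -h2
  exact ⟨v, by rw [hu]⟩

/-- the Frattini subgroup contains all `U 0 u v` -/
theorem mem_of_comm (D : Data m U h n) (hm : 1 ≤ m) (hK : Fintype.card K = 3 ^ (2 * m + 1)) (Φ : Subgroup G)
    (hΦ : ∀ x ∈ uSub D, ∀ y ∈ uSub D, x * y * x⁻¹ * y⁻¹ ∈ Φ) (hinv : ∀ a : Kˣ, ∀ x ∈ Φ, h a * x * (h a)⁻¹ ∈ Φ)
    (u v : K) : U 0 u v ∈ Φ := by
  have h0 := zero_pow_three_pow (K := K) (m + 1)
  -- commutators
  have hcomm : ∀ t t', ∃ v', U 0 (t' * t ^ (3 ^ (m + 1)) - t * t' ^ (3 ^ (m + 1))) v' ∈ Φ := by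
    intro t t'
    have h1 := hΦ (U t 0 0) ⟨_, _, _, rfl⟩ (U t' 0 0) ⟨_, _, _, rfl⟩
    obtain ⟨a, b, c, h2⟩ := (uSub D).mul_mem ((uSub D).mul_mem ((uSub D).mul_mem
      (⟨t, 0, 0, rfl⟩ : U t 0 0 ∈ uSub D) (⟨t', 0, 0, rfl⟩ : U t' 0 0 ∈ uSub D))
      ((uSub D).inv_mem (⟨t, 0, 0, rfl⟩ : U t 0 0 ∈ uSub D)))
      ((uSub D).inv_mem (⟨t', 0, 0, rfl⟩ : U t' 0 0 ∈ uSub D))
    rw [h2] at h1
    have h3 : U a b c * (U t' 0 0 * U t 0 0) = U t 0 0 * U t' 0 0 := by rw [← h2]; group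
    rw [D.U_mul, D.U_mul, D.U_mul] at h3
    obtain ⟨e1, e2, -⟩ := U_injective D h3
    have ha : a = 0 := by linear_combination e1
    subst ha
    refine ⟨c, ?_⟩
    have hb : b = t' * t ^ (3 ^ (m + 1)) - t * t' ^ (3 ^ (m + 1)) := by linear_combination e2
    rw [← hb]
    exact h1
  have hcz : ∀ v, U 0 0 v ∈ Φ := by
    intro v
    have h1 := hΦ (U 0 (-v) 0) ⟨_, _, _, rfl⟩ (U 1 0 0) ⟨_, _, _, rfl⟩
    have h2 : U 0 (-v) 0 * U 1 0 0 * (U 0 (-v) 0)⁻¹ * (U 1 0 0)⁻¹ = U 0 0 v := by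
      rw [mul_inv_eq_iff_eq_mul, mul_inv_eq_iff_eq_mul, D.U_mul, D.U_mul, D.U_mul]
      congr 1 <;> simp
    rwa [h2] at h1
  have hred : ∀ u v v', U 0 u v ∈ Φ → U 0 u v' ∈ Φ := by
    intro u v v' h1
    have h2 := Φ.mul_mem h1 (hcz (v' - v))
    rw [D.U_mul] at h2
    have h3 : U (0 + 0) (u + 0 - 0 * 0 ^ (3 ^ (m + 1)))
        (v + (v' - v) - u * 0 - 0 ^ 2 * 0 ^ (3 ^ (m + 1)) + 0 * 0 * 0 ^ (3 ^ (m + 1))) = U 0 u v' := by
      congr 1 <;> ring
    rwa [h3] at h2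
  have hneg : ∀ u, U 0 u 0 ∈ Φ → U 0 (-u) 0 ∈ Φ := by
    intro u h1
    rw [D.U_neg]
    exact Φ.inv_mem h1
  obtain ⟨s, hs⟩ := exists_pow_ne hm hK
  obtain ⟨v₀, hv₀⟩ := hcomm s 1
  set c := 1 * s ^ (3 ^ (m + 1)) - s * 1 ^ (3 ^ (m + 1)) with hc
  have hc0 : c ≠ 0 := by
    rw [hc, one_mul, one_pow, mul_one]
    exact sub_ne_zero.2 hs
  have hcc : U 0 c 0 ∈ Φ := hred _ _ _ hv₀
  have hall : ∀ a : Kˣ, U 0 ((a : K) * c) 0 ∈ Φ := by
    have hsq : ∀ b : Kˣ, U 0 (((b * b : Kˣ) : K) * c) 0 ∈ Φ := by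
      intro b
      have h1 := hinv (f m b) _ hcc
      rw [D.h_U0, mul_inv_cancel_right, ← Units.val_pow_eq_pow_val, f_pow hK, pow_two] at h1
      exact h1
    intro a
    obtain ⟨b, rfl | rfl⟩ := exists_sq_or_neg hK a
    · exact hsq b
    · rw [Units.val_neg, neg_mul]
      exact hneg _ (hsq b)
  apply hred u 0 v
  by_cases hu : u = 0
  · rw [hu, D.U_zero]
    exact Φ.one_mem
  · have h1 := hall (Units.mk0 (u * c⁻¹) (mul_ne_zero hu (inv_ne_zero hc0)))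
    rwa [Units.val_mk0, inv_mul_cancel_right₀ hc0] at h1

/-! ### the normaliser -/

theorem normalizer_uSub (D : Data m U h n) : normalizer ((uSub D : Subgroup G) : Set G) = bSub D := by
  ext g
  constructor
  · intro hg
    have hx1 : U 0 0 1 ≠ 1 := by
      intro h1
      rw [← D.U_zero] at h1
      exact one_ne_zero (U_injective D h1).2.2
    refine mem_bSub_of_inv_conj_mem D (x := U 0 0 1) ⟨_, _, _, rfl⟩ hx1 ?_
    have h1 := (Subgroup.mem_normalizer_iff.1 (inv_mem hg) (U 0 0 1)).1 ⟨_, _, _, rfl⟩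
    rwa [inv_inv] at h1
  · intro hg
    rw [Subgroup.mem_normalizer_iff]
    intro x
    refine ⟨fun hx => conj_mem_uSub D hg hx, fun hx => ?_⟩
    have h1 := inv_conj_mem_uSub D hg hx
    have h2 : g⁻¹ * (g * x * g⁻¹) * g = x := by group
    rwa [h2] at h1

theorem hSub_le_bSub (D : Data m U h n) : hSub D ≤ bSub D := by
  intro g hg
  obtain ⟨a, rfl⟩ := (mem_hSub D).1 hg
  exact h_mem_bSub D a

theorem sup_eq (D : Data m U h n) : uSub D ⊔ hSub D = bSub D := by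
  apply le_antisymm
  · exact sup_le (uSub_le_bSub D) (hSub_le_bSub D)
  · rintro _ ⟨t, u, v, a, rfl⟩
    exact mul_mem (mem_sup_left ⟨_, _, _, rfl⟩) (mem_sup_right ((mem_hSub D).2 ⟨a, rfl⟩))

theorem exists_pow_three (hK : Fintype.card K = 3 ^ (2 * m + 1)) (b : Kˣ) : ∃ a : Kˣ, a ^ (3 ^ (m + 1)) = b := by
  have hinj : Function.Injective fun a : Kˣ => a ^ (3 ^ (m + 1)) := by
    intro a b hab
    have h1 : (a * b⁻¹) ^ (3 ^ (m + 1)) = 1 := by
      rw [mul_pow, inv_pow]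
      exact mul_inv_eq_one.2 hab
    exact mul_inv_eq_one.1 (eq_one_of_pow_three hK (m + 1) _ h1)
  exact (Finite.injective_iff_surjective.1 hinj) b

/-- **The Sylow 3-subgroups of the small Ree groups are good.** -/
theorem good (hR : GoalReg.{u}) [Finite G] (D : Data m U h n) (hm : 1 ≤ m) (hK : Fintype.card K = 3 ^ (2 * m + 1)) :
    GoodL 3 G := by
  haveI : Fact (Nat.Prime 3) := ⟨Nat.prime_three⟩
  obtain ⟨S, hS⟩ := exists_sylow D hK
  have hN : ∀ a : Kˣ, h a ∈ normalizer ((S : Subgroup G) : Set G) := by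
    intro a
    rw [hS, normalizer_uSub D]
    exact h_mem_bSub D a
  have hmem : ∀ a : MulAut ↥(S : Subgroup G), a ∈ autOf (S : Subgroup G) (hSub D) →
      ∃ b : Kˣ, a = (S : Subgroup G).normalizerMonoidHom ⟨h b, hN b⟩ := by
    rintro a ha
    obtain ⟨⟨g, hg⟩, hg1, rfl⟩ := ha
    obtain ⟨b, hb⟩ := (mem_hSub D).1 (Subgroup.mem_subgroupOf.1 hg1)
    have hb' : g = h b := hb
    subst hb'
    exact ⟨b, rfl⟩
  have hmem' : ∀ b : Kˣ, (S : Subgroup G).normalizerMonoidHom ⟨h b, hN b⟩ ∈ autOf (S : Subgroup G) (hSub D) := fun b =>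
    Subgroup.mem_map_of_mem _ (Subgroup.mem_subgroupOf.2 ((mem_hSub D).2 ⟨b, rfl⟩))
  have hcoe : ∀ (b : Kˣ) (x : ↥(S : Subgroup G)),
      (((S : Subgroup G).normalizerMonoidHom ⟨h b, hN b⟩ x : ↥(S : Subgroup G)) : G) = h b * x * (h b)⁻¹ :=
    fun b x => rfl
  have hU : ∀ x : ↥(S : Subgroup G), (x : G) ∈ uSub D := fun x => hS ▸ x.2
  have hz : ∀ z ∈ center ↥(S : Subgroup G), z ≠ 1 → ∃ v : K, v ≠ 0 ∧ (z : G) = U 0 0 v := by
    intro z hz hz1
    obtain ⟨v, hv⟩ := of_commute D hm hK (hU z) (fun y hy => by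
      have h1 := (Subgroup.mem_center_iff.1 hz ⟨y, by rw [hS]; exact hy⟩)
      exact (congrArg Subtype.val h1).symm)
    refine ⟨v, ?_, hv⟩
    rintro rfl
    apply hz1
    apply Subtype.ext
    rw [hv, D.U_zero]
    rfl
  have hfr : ∀ x : ↥(S : Subgroup G), (∃ u v, (x : G) = U 0 u v) → x ∈ frattini ↥(S : Subgroup G) := by
    rintro x ⟨u, v, hx⟩
    have h1 : U 0 u v ∈ (frattini ↥(S : Subgroup G)).map (S : Subgroup G).subtype := by
      refine mem_of_comm D hm hK _ ?_ ?_ u v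
      · intro x hx y hy
        rw [← hS] at hx hy
        refine ⟨⟨x, hx⟩ * ⟨y, hy⟩ * ⟨x, hx⟩⁻¹ * ⟨y, hy⟩⁻¹, ?_, rfl⟩
        exact Cfsg.Agent.Lib.FrattiniBasic.commutator_le_frattini S.2
          (Subgroup.commutator_mem_commutator (Subgroup.mem_top _) (Subgroup.mem_top _))
      · rintro a _ ⟨y, hy, rfl⟩
        refine ⟨(S : Subgroup G).normalizerMonoidHom ⟨h a, hN a⟩ y, ?_, rfl⟩
        have h1 : (frattini ↥(S : Subgroup G)).map
            ((S : Subgroup G).normalizerMonoidHom ⟨h a, hN a⟩).toMonoidHom = frattini ↥(S : Subgroup G) :=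
          Subgroup.characteristic_iff_map_eq.1 frattini_characteristic _
        rw [← h1]
        exact Subgroup.mem_map_of_mem _ hy
    obtain ⟨y, hy, hyx⟩ := h1
    have : y = x := Subtype.ext (hyx.trans hx.symm)
    rwa [← this]
  refine ⟨S, hSub D, ?_, ?_, ?_, hR 3 ↥(S : Subgroup G) S.2 _ ?_ ?_ ?_ ?_⟩
  · rw [hS, normalizer_uSub D]
    exact hSub_le_bSub D
  · rw [card_hSub D, hK]
    intro h3
    have h4 : 3 ∣ 3 ^ (2 * m + 1) := dvd_pow_self 3 (by omega)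
    have h5 : 0 < 3 ^ (2 * m + 1) := by positivity
    omega
  · rw [hS, normalizer_uSub D, sup_eq D]
  · intro a ha b hb
    obtain ⟨x, rfl⟩ := hmem a ha
    obtain ⟨y, rfl⟩ := hmem b hb
    rw [← map_mul, ← map_mul]
    congr 1
    exact Subtype.ext (D.h_comm x y)
  · intro z hz0 hz1 w hw0 hw1
    obtain ⟨v, hv, hzv⟩ := hz z hz0 hz1
    obtain ⟨v', hv', hwv⟩ := hz w hw0 hw1
    obtain ⟨a, ha⟩ := Cfsg.Agent.H121.ReeMin.exists_pow_c hK (Units.mk0 (v' * v⁻¹) (mul_ne_zero hv' (inv_ne_zero hv)))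
    refine ⟨_, hmem' a, Subtype.ext ?_⟩
    rw [hcoe, hzv, hwv, D.h_U, mul_inv_cancel_right, mul_zero, mul_zero, ← Units.val_pow_eq_pow_val, ha,
      Units.val_mk0, inv_mul_cancel_right₀ hv]
  · intro z hz0 hz1 a ha haz
    obtain ⟨v, hv, hzv⟩ := hz z hz0 hz1
    obtain ⟨b, rfl⟩ := hmem a ha
    have h1 := congrArg Subtype.val haz
    rw [hcoe, hzv, D.h_U, mul_inv_cancel_right, mul_zero, mul_zero] at h1
    have h2 := eq_one_of_mul_eq' hK (U_injective D h1).2.2 hv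
    subst h2
    have h3 : (⟨h 1, hN 1⟩ : ↥(normalizer ((S : Subgroup G) : Set G))) = 1 := Subtype.ext D.h_one
    rw [h3, map_one]
  · intro x hx y hy
    obtain ⟨t, u, v, hxt⟩ := hU x
    obtain ⟨t', u', v', hyt⟩ := hU y
    have ht : t ≠ 0 := by
      rintro rfl
      exact hx (hfr x ⟨u, v, hxt⟩)
    have ht' : t' ≠ 0 := by
      rintro rfl
      exact hy (hfr y ⟨u', v', hyt⟩)
    obtain ⟨a, ha⟩ := exists_pow_three hK (Units.mk0 (t' * t⁻¹) (mul_ne_zero ht' (inv_ne_zero ht)))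
    refine ⟨_, hmem' a, hfr _ ?_⟩
    have h1 : (((S : Subgroup G).normalizerMonoidHom ⟨h a, hN a⟩ x * y⁻¹ : ↥(S : Subgroup G)) : G) =
        U t' ((a : K) ^ (3 ^ (m + 1) + 3) * u) ((a : K) ^ (2 * 3 ^ (m + 1) + 3) * v) * (U t' u' v')⁻¹ := by
      show (((S : Subgroup G).normalizerMonoidHom ⟨h a, hN a⟩ x : ↥(S : Subgroup G)) : G) * (y : G)⁻¹ = _
      rw [hcoe, hxt, hyt, D.h_U, mul_inv_cancel_right, ← Units.val_pow_eq_pow_val a (3 ^ (m + 1)), ha, Units.val_mk0,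
        inv_mul_cancel_right₀ ht]
    rw [h1]
    obtain ⟨b, c, d, h2⟩ := (uSub D).mul_mem
      (⟨t', (a : K) ^ (3 ^ (m + 1) + 3) * u, (a : K) ^ (2 * 3 ^ (m + 1) + 3) * v, rfl⟩ :
        U t' ((a : K) ^ (3 ^ (m + 1) + 3) * u) ((a : K) ^ (2 * 3 ^ (m + 1) + 3) * v) ∈ uSub D)
      ((uSub D).inv_mem (⟨t', u', v', rfl⟩ : U t' u' v' ∈ uSub D))
    refine ⟨c, d, ?_⟩
    rw [h2]
    have h3 := mul_inv_eq_iff_eq_mul.1 h2
    rw [D.U_mul] at h3
    have h4 := (U_injective D h3).1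
    have hb : b = 0 := by linear_combination -h4
    rw [hb]

theorem result (hR : GoalReg.{u}) : GoalRee.{u} := by
  intro L _ hL
  obtain ⟨K, _, _, m, hm, hK, ⟨e⟩⟩ := hL
  have D := data_congr e.symm (ReeFinal.data hK)
  haveI : Finite L := ReeSylowThree.finite D
  exact good hR D hm hK

end Cfsg.Agent.H121.TI.Ree
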